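import Groth.Prelude.Def_CartDual
import Groth.Agent.Lib.TruncPoly23.Quot
import Groth.Agent.Lib.FinRed23.Basic
import Groth.Agent.Lib.Unip23.Primitive
import Mathlib.RingTheory.HopfAlgebra.Quotient
import Mathlib.RingTheory.Nilpotent.Basic

/-!
# Simple infinitesimal group schemes: primitive and group-like generators
-/

set_option autoImplicit false

universe u v

open TensorProduct Groth.Agent.TruncPoly23

namespace Groth.Agent.Simple23

variable {k : Type u} [Field k] {A : Type v} [CommRing A] [HopfAlgebra k A] [FiniteDimensional k A]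

theorem exists_apply_eq (Φ : CartDual.D k A →ₗ[k] k) : ∃ a : A, ∀ x : CartDual.D k A, x a = Φ x := by
  refine ⟨(Module.evalEquiv k A).symm (Φ ∘ₗ (CartDual.toDual k A).symm.toLinearMap), fun x => ?_⟩
  have h := LinearMap.congr_fun ((Module.evalEquiv k A).apply_symm_apply
    (Φ ∘ₗ (CartDual.toDual k A).symm.toLinearMap)) x.ofConv
  rw [Module.evalEquiv_apply, Module.Dual.eval_apply] at h
  exact h

theorem comul_eq {a : A} {t : A ⊗[k] A}
    (h : ∀ y z : CartDual.D k A, (y * z) a = CartDual.ev₂ k A (y ⊗ₜ z) t) : Coalgebra.comul (R := k) a = t := by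
  rw [← sub_eq_zero, ← Module.forall_dual_apply_eq_zero_iff k]
  intro w
  obtain ⟨u, rfl⟩ := (CartDual.ev₂ k A).surjective w
  induction u with
  | zero => simp
  | add u u' hu hu' => simp only [map_add, LinearMap.add_apply, hu, hu', add_zero]
  | tmul y z =>
    rw [map_sub, ← h, sub_eq_zero, CartDual.ev₂_tmul_eq, LinearMap.comp_apply, CartDual.coe_apply,
      LinearMap.convMul_def, LinearMap.comp_apply, LinearMap.comp_apply]
    generalize TensorProduct.map y.ofConv z.ofConv (Coalgebra.comul (R := k) a) = w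
    induction w with
    | zero => simp
    | tmul p q => simp
    | add p q hp hq => simp only [map_add, hp, hq]

theorem counit_eq_one {g : A} (h : ∀ y z : CartDual.D k A, (y * z) g = y g * z g) (hne : g ≠ 0) :
    Coalgebra.counit (R := k) g = 1 := by
  obtain ⟨y, hy⟩ : ∃ y : CartDual.D k A, y g ≠ 0 := by
    by_contra hall
    push Not at hall
    exact hne ((Module.forall_dual_apply_eq_zero_iff k g).1 fun w => hall ((CartDual.toDual k A).symm w))
  have h1 := h 1 y
  rw [one_mul] at h1
  have h2 : (1 : CartDual.D k A) g = Coalgebra.counit (R := k) g := by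
    simp [CartDual.coe_apply, LinearMap.convOne_def]
  rw [h2] at h1
  exact (mul_left_eq_self₀.1 h1.symm).resolve_right hy

theorem comul_grouplike {g : A} (h : ∀ y z : CartDual.D k A, (y * z) g = y g * z g) :
    Coalgebra.comul (R := k) g = g ⊗ₜ[k] g :=
  comul_eq fun y z => by rw [h, CartDual.ev₂_tmul]

theorem finrank_dual : Module.finrank k (CartDual.D k A) = Module.finrank k A := by
  rw [(CartDual.toDual k A).finrank_eq, Module.finrank_linearMap, Module.finrank_self, mul_one]

theorem counit_algebraMap (c : k) : (algebraMap k (CartDual.D k A) c) (1 : A) = c := by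
  simp [CartDual.coe_apply, LinearMap.convAlgebraMap_apply]

/-- A nonzero primitive element when the dual is local. -/
theorem exists_primitive [Coalgebra.IsCocomm k A] [IsLocalRing (CartDual.D k A)] (hA : 1 < Module.finrank k A) :
    ∃ x : A, x ≠ 0 ∧ Coalgebra.comul (R := k) x = x ⊗ₜ[k] (1 : A) + (1 : A) ⊗ₜ[k] x := by
  haveI : Module.Finite k (CartDual.D k A) := Module.Finite.equiv (CartDual.toDual k A).symm
  haveI : IsArtinianRing (CartDual.D k A) := IsArtinianRing.of_finite k _
  set m := IsLocalRing.maximalIdeal (CartDual.D k A)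
  have hm : ∀ y : CartDual.D k A, y - algebraMap k _ (y 1) ∈ m := by
    intro y hu
    have h1 : IsUnit (Bialgebra.counitAlgHom k (CartDual.D k A) (y - algebraMap k _ (y 1))) := hu.map _
    rw [map_sub, AlgHom.commutes] at h1
    simp at h1
  obtain ⟨y₀, hy₀, hy₀'⟩ : ∃ y ∈ m, y ∉ m ^ 2 := by
    by_contra hall
    push Not at hall
    have hm0 : m = ⊥ := by
      refine Submodule.eq_bot_of_le_smul_of_le_jacobson_bot m m (IsNoetherian.noetherian m) ?_
        (IsLocalRing.maximalIdeal_le_jacobson _)
      rw [smul_eq_mul, ← pow_two]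
      exact hall
    have hsurj : Function.Surjective (algebraMap k (CartDual.D k A)) := fun y => by
      refine ⟨y 1, ?_⟩
      have := hm y
      rw [hm0, Ideal.mem_bot, sub_eq_zero] at this
      exact this.symm
    have h1 := LinearMap.finrank_range_le (Algebra.linearMap k (CartDual.D k A))
    rw [LinearMap.range_eq_top.2 hsurj, finrank_top, Module.finrank_self, finrank_dual] at h1
    omega
  have hnot : y₀ ∉ (m ^ 2).restrictScalars k ⊔ Submodule.span k {1} := by
    intro hmem
    obtain ⟨w, hw, z, hz, he⟩ := Submodule.mem_sup.1 hmem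
    obtain ⟨c, rfl⟩ := Submodule.mem_span_singleton.1 hz
    have hw' : w ∈ m ^ 2 := hw
    have hc : c • (1 : CartDual.D k A) ∈ m := by
      rw [show c • (1 : CartDual.D k A) = y₀ - w by rw [← he]; abel]
      exact sub_mem hy₀ (Ideal.pow_le_self two_ne_zero hw')
    rw [← Algebra.algebraMap_eq_smul_one] at hc
    by_cases h0 : c = 0
    · apply hy₀'
      rw [← he, h0, zero_smul, add_zero]
      exact hw'
    · exact hc ((isUnit_iff_ne_zero.2 h0).map _)
  obtain ⟨Φ, hΦ, hΦ'⟩ := Submodule.exists_dual_map_eq_bot_of_notMem hnot inferInstance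
  have hΦ0 : ∀ z ∈ (m ^ 2).restrictScalars k ⊔ Submodule.span k {1}, Φ z = 0 := fun z hz => by
    have : Φ z ∈ Submodule.map Φ ((m ^ 2).restrictScalars k ⊔ Submodule.span k {1}) := Submodule.mem_map_of_mem hz
    rwa [hΦ', Submodule.mem_bot] at this
  obtain ⟨x, hx⟩ := exists_apply_eq Φ
  refine ⟨x, fun h0 => hΦ ?_, comul_eq fun y z => ?_⟩
  · rw [← hx, h0, CartDual.coe_apply, map_zero]
  have hsq : Φ ((y - algebraMap k _ (y 1)) * (z - algebraMap k _ (z 1))) = 0 :=
    hΦ0 _ (Submodule.mem_sup_left (by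
      show _ ∈ m ^ 2
      rw [pow_two]; exact Ideal.mul_mem_mul (hm y) (hm z)))
  have hone : Φ (1 : CartDual.D k A) = 0 := hΦ0 _ (Submodule.mem_sup_right (Submodule.mem_span_singleton_self _))
  have he : (y - algebraMap k _ (y 1)) * (z - algebraMap k _ (z 1)) =
      y * z - z 1 • y - y 1 • z + (y 1 * z 1) • (1 : CartDual.D k A) := by
    simp only [Algebra.smul_def, map_mul]; ring
  rw [he, map_add, map_sub, map_sub, map_smul, map_smul, map_smul, hone, smul_zero, add_zero, ← hx y, ← hx z,
    ← hx (y * z), smul_eq_mul, smul_eq_mul] at hsq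
  rw [map_add, CartDual.ev₂_tmul, CartDual.ev₂_tmul]
  linear_combination hsq

/-- A nontrivial group-like element when the dual is reduced and the field algebraically closed. -/
theorem exists_groupLike [IsAlgClosed k] [Coalgebra.IsCocomm k A] [IsReduced (CartDual.D k A)]
    (hA : 1 < Module.finrank k A) : ∃ g : A, g ≠ 1 ∧ IsGroupLikeElem k g := by
  haveI : Module.Finite k (CartDual.D k A) := Module.Finite.equiv (CartDual.toDual k A).symm
  obtain ⟨χ, hχ⟩ : ∃ χ : CartDual.D k A →ₐ[k] k, χ ≠ Bialgebra.counitAlgHom k (CartDual.D k A) := by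
    by_contra hall
    push Not at hall
    have h1 := FinRed23.card_points (k := k) (E := CartDual.D k A)
    haveI : Subsingleton (CartDual.D k A →ₐ[k] k) := ⟨fun a b => (hall a).trans (hall b).symm⟩
    rw [finrank_dual] at h1
    have := Finite.card_le_one_iff_subsingleton.2 (inferInstance : Subsingleton (CartDual.D k A →ₐ[k] k))
    omega
  obtain ⟨g, hg⟩ := exists_apply_eq χ.toLinearMap
  have hmul : ∀ y z : CartDual.D k A, (y * z) g = y g * z g := fun y z => by
    rw [hg, hg, hg]; exact map_mul χ y z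
  refine ⟨g, fun h => hχ (AlgHom.ext fun y => ?_), ⟨counit_eq_one hmul ?_, comul_grouplike hmul⟩⟩
  · rw [← AlgHom.toLinearMap_apply, ← hg, h]; simp
  · intro h0
    have := hg 1
    rw [h0, CartDual.coe_apply, map_zero, AlgHom.toLinearMap_apply, map_one] at this
    exact zero_ne_one this

omit [FiniteDimensional k A] in
theorem isHopfIdeal_span_sub_one {g : A} (hg : IsGroupLikeElem k g) : (Ideal.span {g - 1}).IsHopfIdeal k := by
  set I := Ideal.span {g - 1}
  have hmem : g - 1 ∈ I := Ideal.mem_span_singleton_self _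
  have hmk : Ideal.Quotient.mk I g = 1 := by rw [← map_one (Ideal.Quotient.mk I), Ideal.Quotient.eq]; exact hmem
  refine { toIsCoideal := ⟨?_, ?_⟩, antipode_mem := ?_ }
  · intro y hy
    have hle : I ≤ RingHom.ker (Bialgebra.counitAlgHom k A) := by
      rw [Ideal.span_le, Set.singleton_subset_iff, SetLike.mem_coe, RingHom.mem_ker, map_sub, map_one,
        Bialgebra.counitAlgHom_apply, hg.counit_eq_one, sub_self]
    exact hle hy
  · intro y hy
    have hle : I ≤ RingHom.ker ((Algebra.TensorProduct.map (Ideal.Quotient.mkₐ k I) (Ideal.Quotient.mkₐ k I)).comp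
        (Bialgebra.comulAlgHom k A)) := by
      rw [Ideal.span_le, Set.singleton_subset_iff, SetLike.mem_coe, RingHom.mem_ker, map_sub, map_one,
        AlgHom.comp_apply, Bialgebra.comulAlgHom_apply, hg.comul_eq_tmul_self, Algebra.TensorProduct.map_tmul,
        Ideal.Quotient.mkₐ_eq_mk, hmk, ← Algebra.TensorProduct.one_def, sub_self]
    exact hle hy
  · intro y hy
    obtain ⟨c, rfl⟩ := Ideal.mem_span_singleton'.1 hy
    rw [HopfAlgebra.antipode_mul_distrib]
    refine Ideal.mul_mem_left _ _ ?_
    have h1 : HopfAlgebra.antipode k g * g = 1 := hg.antipode_mul_cancel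
    rw [map_sub, HopfAlgebra.antipode_one,
      show HopfAlgebra.antipode k g - 1 = -(HopfAlgebra.antipode k g) * (g - 1) by linear_combination h1]
    exact Ideal.mul_mem_left _ _ hmem

variable [IsLocalRing A]
  (hsimple : ∀ I : Ideal A, I.IsHopfIdeal k → I = ⊥ ∨ I = RingHom.ker (Bialgebra.counitAlgHom k A))

theorem isNilpotent_of_counit {y : A} (hy : Bialgebra.counitAlgHom k A y = 0) : IsNilpotent y := by
  haveI : IsArtinianRing A := IsArtinianRing.of_finite k _
  obtain ⟨n, hn⟩ := (IsArtinianRing.isNilpotent_jacobson_bot (R := A))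
  refine ⟨n, ?_⟩
  have h1 : y ∈ (⊥ : Ideal A).jacobson := by
    rw [IsLocalRing.jacobson_eq_maximalIdeal ⊥ bot_ne_top]
    intro hu
    have := hu.map (Bialgebra.counitAlgHom k A)
    rw [hy] at this
    exact not_isUnit_zero this
  have := Ideal.pow_mem_pow h1 n
  rwa [hn, Ideal.zero_eq_bot, Ideal.mem_bot] at this

include hsimple in
theorem span_eq_aug {x : A} (hx : (Ideal.span {x}).IsHopfIdeal k) (hx0 : x ≠ 0) : Ideal.span {x} = aug k A :=
  (hsimple _ hx).resolve_left fun h => hx0 (by simpa [Ideal.span_singleton_eq_bot] using h)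

include hsimple in
theorem adjoin_eq_top {x : A} (hx : (Ideal.span {x}).IsHopfIdeal k) (hx0 : x ≠ 0) : Algebra.adjoin k {x} = ⊤ := by
  have haug := span_eq_aug hsimple hx hx0
  have key : ∀ n, ∀ a : A, ∃ b ∈ Algebra.adjoin k {x}, ∃ c : A, a = b + x ^ n * c := by
    intro n
    induction n with
    | zero => exact fun a => ⟨0, zero_mem _, a, by simp⟩
    | succ n ih =>
      intro a
      obtain ⟨b, hb, c, rfl⟩ := ih a
      obtain ⟨d, hd⟩ := Ideal.mem_span_singleton'.1 (haug.ge (sub_counit_mem (k := k) c))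
      refine ⟨b + algebraMap k A (Bialgebra.counitAlgHom k A c) * x ^ n, add_mem hb (mul_mem (Subalgebra.algebraMap_mem _ _)
        (pow_mem (Algebra.self_mem_adjoin_singleton k x) n)), d, ?_⟩
      linear_combination (-(x ^ n)) * hd
  obtain ⟨N, hN⟩ := isNilpotent_of_counit (k := k) (haug.le (Ideal.mem_span_singleton_self x))
  refine eq_top_iff.2 fun a _ => ?_
  obtain ⟨b, hb, c, rfl⟩ := key N a
  rwa [hN, zero_mul, add_zero]

include hsimple in
theorem pow_eq_zero (p : ℕ) [Fact p.Prime] {x : A} (hx : Bialgebra.counitAlgHom k A x = 0)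
    (hxp : (Ideal.span {x ^ p}).IsHopfIdeal k) : x ^ p = 0 := by
  by_contra h0
  have hp2 := (Fact.out : p.Prime).two_le
  have hmem : x ∈ Ideal.span {x ^ p} := (span_eq_aug hsimple hxp h0).ge hx
  obtain ⟨d, hd⟩ := Ideal.mem_span_singleton'.1 hmem
  have hu : IsUnit (1 - d * x ^ (p - 1)) :=
    (mem_nilradical.1 (Ideal.mul_mem_left _ d
      (mem_nilradical.2 ((isNilpotent_of_counit (k := k) hx).pow_of_pos (show p - 1 ≠ 0 by omega))))).isUnit_one_sub
  have hz : x * (1 - d * x ^ (p - 1)) = 0 := by
    rw [mul_sub, mul_one, mul_left_comm, ← pow_succ', show p - 1 + 1 = p by omega, hd, sub_self]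
  exact h0 (by rw [(hu.mul_left_eq_zero).1 hz, zero_pow (Fact.out : p.Prime).pos.ne'])

variable (p : ℕ) [Fact p.Prime] [CharP k p]

include hsimple in
theorem finrank_eq {x : A} (hx : (Ideal.span {x}).IsHopfIdeal k) (hx0 : x ≠ 0) (hxp : x ^ p = 0)
    (hA : 1 < Module.finrank k A) : Module.finrank k A = p := by
  classical
  have haug := span_eq_aug hsimple hx hx0
  haveI : IsNoetherianRing A := IsNoetherianRing.of_finite k A
  haveI := finite_cotangent (k := k) (A := A)
  have hxa : x ∈ aug k A := haug.le (Ideal.mem_span_singleton_self x)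
  have hle : Module.finrank k (aug k A).Cotangent ≤ 1 := by
    refine finrank_le_one ((aug k A).toCotangent ⟨x, hxa⟩) fun z => ?_
    obtain ⟨⟨y, hy⟩, rfl⟩ := (aug k A).toCotangent_surjective z
    obtain ⟨d, hd⟩ := Ideal.mem_span_singleton'.1 (haug.ge hy)
    refine ⟨Bialgebra.counitAlgHom k A d, ?_⟩
    have h1 := proj_mul (k := k) d x
    rw [hd, proj_of_mem hy, proj_of_mem hxa, show Bialgebra.counitAlgHom k A x = 0 from hxa, zero_smul, add_zero] at h1
    exact h1.symm
  let b := Module.finBasis k (aug k A).Cotangent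
  have hI : ∀ y ∈ aug k A, y ^ p = 0 := fun y hy => by
    obtain ⟨d, rfl⟩ := Ideal.mem_span_singleton'.1 (haug.ge hy)
    rw [mul_pow, hxp, mul_zero]
  have hN : IsNilpotent (aug k A) :=
    (Ideal.fg_of_isNoetherianRing _).isNilpotent_iff_le_nilradical.2 fun y hy => ⟨p, hI y hy⟩
  obtain ⟨N, hN⟩ := hN
  have h := finrank_quot b p ⊥ bot_le (fun i a ha => by simp [Ideal.mem_bot.1 ha])
    (fun i => Ideal.mem_bot.2 (hI _ (gen_mem b i))) ⟨N, hN.le⟩
  rw [(AlgEquiv.quotientBot k A).toLinearEquiv.finrank_eq, Fintype.card_fin] at h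
  rcases Nat.le_one_iff_eq_zero_or_eq_one.1 hle with h0 | h1
  · rw [h0, pow_zero] at h; omega
  · rw [h1, pow_one] at h; exact h

theorem linearIndependent_powers {y : A} {c : k} (htop : Algebra.adjoin k {y} = ⊤) (hy : y ^ p = algebraMap k A c)
    (hfin : Module.finrank k A = p) : LinearIndependent k fun i : Fin p => y ^ (i : ℕ) := by
  refine linearIndependent_of_top_le_span_of_card_eq_finrank ?_ (by simp [hfin])
  have hp : 0 < p := (Fact.out : p.Prime).pos
  have hmem : ∀ n, y ^ n ∈ Submodule.span k (Set.range fun i : Fin p => y ^ (i : ℕ)) := fun n => by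
    rw [← Nat.div_add_mod n p, pow_add, pow_mul, hy, ← map_pow, ← Algebra.smul_def]
    exact Submodule.smul_mem _ _ (Submodule.subset_span ⟨⟨n % p, Nat.mod_lt _ hp⟩, rfl⟩)
  intro a _
  have ha : a ∈ Subalgebra.toSubmodule (Algebra.adjoin k {y}) := by rw [htop]; exact (Algebra.mem_top : a ∈ (⊤ : Subalgebra k A))
  rw [Algebra.adjoin_eq_span] at ha
  refine Submodule.span_le.2 ?_ ha
  intro z hz
  obtain ⟨n, rfl⟩ := Submonoid.mem_closure_singleton.1 hz
  exact hmem n

end Groth.Agent.Simple23
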